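import Mathlib.GroupTheory.Transfer
import Cfsg.Agent.Lib.CN.Partition
import Cfsg.Agent.Lib.Frobenius.Theorem
import Cfsg.Agent.Lib.Zass.FpfCyclic
import Cfsg.Agent.Lib.Invol.StronglyEmbedded
import Cfsg.Agent.Lib.SEmb.Counting
import Cfsg.Agent.Lib.Solvable.Core
import Cfsg.Agent.S0042
import Cfsg.Agent.S0205

/-!
# Groups whose maximal solvable subgroups are Frobenius groups with trivial intersection kernels

First part: the kernels are nilpotent and contain the centralisers of their elements, there is no
normal abelian subgroup, and the group is simple.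
-/

set_option autoImplicit false

namespace CfsgLib.MaxSolvFrob

open Subgroup
open scoped Pointwise

universe u

theorem isSolvable_of_le {G : Type*} [Group G] {A B : Subgroup G} (h : A ≤ B)
    (hB : Group.IsSolvable B) : Group.IsSolvable A :=
  Group.isSolvable_of_isSolvable_injective (f := inclusion h) (inclusion_injective h)

theorem isSolvable_sup_normal {G : Type*} [Group G] [Finite G] (M N : Subgroup G) [N.Normal]
    (hM : Group.IsSolvable M) (hN : Group.IsSolvable N) : Group.IsSolvable (M ⊔ N : Subgroup G) := by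
  let f : ↥(M ⊔ N) →* G ⧸ N := (QuotientGroup.mk' N).comp (M ⊔ N).subtype
  have hr : f.range ≤ M.map (QuotientGroup.mk' N) := by
    rintro _ ⟨⟨x, hx⟩, rfl⟩
    have h1 : (M ⊔ N).map (QuotientGroup.mk' N) = M.map (QuotientGroup.mk' N) := by
      rw [Subgroup.map_sup, QuotientGroup.map_mk'_self, sup_bot_eq]
    rw [← h1]
    exact ⟨x, hx, rfl⟩
  haveI : Group.IsSolvable (M.map (QuotientGroup.mk' N)) :=
    Group.isSolvable_of_surjective (f := (QuotientGroup.mk' N).subgroupMap M)
      (MonoidHom.subgroupMap_surjective _ M)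
  haveI := isSolvable_of_le hr this
  haveI : Group.IsSolvable (N.subgroupOf (M ⊔ N)) :=
    Group.isSolvable_of_surjective (f := (subgroupOfEquivOfLe (le_sup_right : N ≤ M ⊔ N)).symm.toMonoidHom)
      (MulEquiv.surjective _)
  refine Group.isSolvable_of_ker_le_range (N.subgroupOf (M ⊔ N)).subtype f.rangeRestrict ?_
  intro x hx
  rw [MonoidHom.mem_ker, Subtype.ext_iff] at hx
  exact ⟨⟨x, (QuotientGroup.eq_one_iff (x : G)).mp hx⟩, rfl⟩

/-- A group all of whose solvable subgroups are abelian is solvable. -/
theorem isSolvable_of_solvable_abelian : ∀ (n : ℕ) (G : Type u) [Group G] [Finite G],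
    Nat.card G ≤ n →
    (∀ H : Subgroup G, Group.IsSolvable H → IsMulCommutative H) → Group.IsSolvable G := by
  intro n
  induction n with
  | zero => intro G _ _ hn; have := (Nat.card_pos : 0 < Nat.card G); omega
  | succ n ih =>
    intro G _ _ hn hab
    rcases subsingleton_or_nontrivial G with hG | hG
    · exact Group.isSolvable_of_comm fun a b => Subsingleton.elim _ _
    have key : ∀ K : Subgroup G, K ≠ ⊤ → Group.IsSolvable K := by
      intro K hK
      refine ih K ?_ fun H hH => ?_
      · have hlt : Nat.card K < Nat.card G := lt_of_le_of_ne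
          (Nat.le_of_dvd Nat.card_pos K.card_subgroup_dvd_card) fun e => hK (eq_top_of_card_eq K e)
        omega
      · haveI := hH
        haveI : Group.IsSolvable (H.map K.subtype) :=
          Group.isSolvable_of_surjective (f := K.subtype.subgroupMap H) (MonoidHom.subgroupMap_surjective _ H)
        haveI := hab _ this
        exact ⟨⟨fun a b => Subtype.ext (Subtype.ext
          (setLike_mul_comm (S := Subgroup G) (s := H.map K.subtype)
            (mem_map_of_mem K.subtype a.2) (mem_map_of_mem K.subtype b.2)))⟩⟩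
    obtain ⟨p, hp, hpd⟩ := Nat.exists_prime_and_dvd (Finite.one_lt_card (α := G)).ne'
    haveI := Fact.mk hp
    obtain ⟨P⟩ : Nonempty (Sylow p G) := inferInstance
    have hP1 : (P : Subgroup G) ≠ ⊥ := P.ne_bot_of_dvd_card hpd
    haveI : Group.IsNilpotent (P : Subgroup G) := P.2.isNilpotent
    by_cases hN : normalizer ((P : Subgroup G) : Set G) = ⊤
    · haveI : (P : Subgroup G).Normal := normalizer_eq_top_iff.mp hN
      haveI : Group.IsSolvable (G ⧸ (P : Subgroup G)) := by
        refine ih _ ?_ fun H hH => ?_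
        · have h1 := (P : Subgroup G).index_mul_card
          have h2 := one_lt_card_iff_ne_bot _ |>.mpr hP1
          have h3 : 0 < (P : Subgroup G).index := Nat.pos_of_ne_zero index_ne_zero_of_finite
          have : (P : Subgroup G).index < Nat.card G := by
            calc (P : Subgroup G).index = (P : Subgroup G).index * 1 := (mul_one _).symm
              _ < (P : Subgroup G).index * Nat.card (P : Subgroup G) := Nat.mul_lt_mul_of_pos_left h2 h3
              _ = Nat.card G := h1
          rw [← index_eq_card]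
          omega
        · let C := H.comap (QuotientGroup.mk' (P : Subgroup G))
          haveI := hH
          have hC : Group.IsSolvable C := by
            let f : C →* H := ((QuotientGroup.mk' (P : Subgroup G)).subgroupComap H)
            haveI : Group.IsSolvable (((P : Subgroup G)).subgroupOf C) :=
              Group.isSolvable_of_isSolvable_injective
                (f := C.subtype.subgroupComap (P : Subgroup G))
                (fun a b e => Subtype.ext (Subtype.ext (congrArg (fun z : (P : Subgroup G) => (z : G)) e)))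
            refine Group.isSolvable_of_ker_le_range (((P : Subgroup G)).subgroupOf C).subtype f ?_
            intro x hx
            rw [MonoidHom.mem_ker, Subtype.ext_iff] at hx
            exact ⟨⟨x, (QuotientGroup.eq_one_iff (x : G)).mp hx⟩, rfl⟩
          haveI := hab C hC
          refine ⟨⟨fun a b => Subtype.ext ?_⟩⟩
          obtain ⟨x, hx⟩ := QuotientGroup.mk_surjective (a : G ⧸ (P : Subgroup G))
          obtain ⟨y, hy⟩ := QuotientGroup.mk_surjective (b : G ⧸ (P : Subgroup G))
          show (a : G ⧸ (P : Subgroup G)) * b = b * a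
          rw [← hx, ← hy, ← QuotientGroup.mk_mul, ← QuotientGroup.mk_mul,
            setLike_mul_comm (S := Subgroup G) (s := C) (a := x) (b := y)]
          · show QuotientGroup.mk x ∈ H
            rw [hx]; exact a.2
          · show QuotientGroup.mk y ∈ H
            rw [hy]; exact b.2
      exact Group.isSolvable_of_ker_le_range (P : Subgroup G).subtype
        (QuotientGroup.mk' (P : Subgroup G)) (by rw [QuotientGroup.ker_mk', range_subtype])
    · haveI := hab _ (key _ hN)
      have hP : normalizer ((P : Subgroup G) : Set G) ≤ centralizer ((P : Subgroup G) : Set G) :=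
        fun g hg => mem_centralizer_iff.mpr fun y hy =>
          setLike_mul_comm (S := Subgroup G) (le_normalizer hy) hg
      have hc := MonoidHom.ker_transferSylow_isComplement' P hP
      haveI : Group.IsSolvable (MonoidHom.transferSylow P hP).ker := key _ fun e => hP1 (by
        have := hc.disjoint
        rwa [e, top_disjoint] at this)
      haveI : Group.IsSolvable (P : Subgroup G) := inferInstance
      exact Group.isSolvable_of_ker_le_range (MonoidHom.transferSylow P hP).ker.subtype
        (MonoidHom.transferSylow P hP) (range_subtype _).ge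

variable {G : Type u} [Group G]

/-- A maximal solvable subgroup. -/
def MaxSolv (M : Subgroup G) : Prop :=
  Group.IsSolvable M ∧ ∀ M' : Subgroup G, M < M' → ¬ Group.IsSolvable M'

/-- The hypothesis: trivial intersection Frobenius kernels of the maximal solvable subgroups. -/
def Hyp (F : Subgroup G → Subgroup G) : Prop :=
  ∀ M : Subgroup G, MaxSolv M →
    F M ≤ M ∧ M ≤ normalizer (F M : Set G) ∧
    (∀ a ∈ M, a ∉ F M → ∀ x ∈ F M, x * a = a * x → x = 1) ∧
    (∀ g : G, g ∉ M → F M ⊓ (MulAut.conj g • F M) = ⊥) ∧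
    (F M ≠ ⊥ ∨ IsMulCommutative M)

variable [Finite G]

theorem exists_maxSolv_ge {H : Subgroup G} (hH : Group.IsSolvable H) :
    ∃ M, H ≤ M ∧ MaxSolv M := by
  obtain ⟨M, ⟨hHM, hM⟩, hmax⟩ := (Set.toFinite {M : Subgroup G | H ≤ M ∧ Group.IsSolvable M}).exists_maximal
    ⟨H, le_rfl, hH⟩
  exact ⟨M, hHM, hM, fun M' hlt hs => absurd (hmax ⟨hHM.trans hlt.le, hs⟩ hlt.le) hlt.not_ge⟩

variable (hns : ¬ Group.IsSolvable G)
include hns

theorem maxSolv_ne_top {M : Subgroup G} (hM : MaxSolv M) : M ≠ ⊤ := by
  rintro rfl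
  haveI := hM.1
  exact hns (Group.isSolvable_of_isSolvable_injective (f := (topEquiv (G := G)).symm.toMonoidHom)
    (topEquiv (G := G)).symm.injective)

variable {F : Subgroup G → Subgroup G} (h : Hyp F)
include h

/-- There is no nontrivial normal abelian subgroup. -/
theorem eq_bot_of_normal_abelian (A : Subgroup G) [A.Normal] [hAc : IsMulCommutative A] : A = ⊥ := by
  by_contra hA
  have hAs : Group.IsSolvable A := Group.isSolvable_of_comm fun a b => mul_comm' a b
  have hF : ∀ M : Subgroup G, MaxSolv M → F M = ⊥ := by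
    intro M hM
    obtain ⟨hle, hnor, hfpf, hti, -⟩ := h M hM
    have hAM : A ≤ M := by
      by_contra hn
      exact hM.2 _ (lt_of_le_of_ne le_sup_left fun e => hn (e.ge.trans' le_sup_right))
        (isSolvable_sup_normal M A hM.1 hAs)
    by_contra hFM
    have key : A ≤ F M := by
      intro a ha
      by_contra haF
      by_cases hne : ∃ x ∈ A, x ∈ F M ∧ x ≠ 1
      · obtain ⟨x, hxA, hxF, hx1⟩ := hne
        exact hx1 (hfpf a (hAM ha) haF x hxF (setLike_mul_comm (S := Subgroup G) hxA ha))
      · push Not at hne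
        obtain ⟨⟨x, hx⟩, hx1⟩ := (ne_bot_iff_exists_ne_one).mp hFM
        refine hx1 (Subtype.ext (hfpf a (hAM ha) haF x hx ?_))
        have h1 : x * a * x⁻¹ * a⁻¹ ∈ A :=
          A.mul_mem (‹A.Normal›.conj_mem a ha x) (A.inv_mem ha)
        have h2 : x * a * x⁻¹ * a⁻¹ ∈ F M := by
          rw [show x * a * x⁻¹ * a⁻¹ = x * (a * x⁻¹ * a⁻¹) by group]
          exact (F M).mul_mem hx ((mem_normalizer_iff.mp (hnor (hAM ha)) x⁻¹).mp ((F M).inv_mem hx))
        exact mul_inv_eq_iff_eq_mul.mp (mul_inv_eq_one.mp (hne _ h1 h2))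
    obtain ⟨g, hg⟩ : ∃ g : G, g ∉ M := by
      by_contra hc
      push Not at hc
      exact maxSolv_ne_top hns hM ((eq_top_iff' M).mpr hc)
    refine hA (eq_bot_iff.mpr fun a ha => ?_)
    rw [← hti g hg]
    refine ⟨key ha, (Subgroup.mem_smul_pointwise_iff_exists _ _ _).mpr ⟨g⁻¹ * a * g, key ?_, ?_⟩⟩
    · simpa using ‹A.Normal›.conj_mem a ha g⁻¹
    · simp [MulAut.smul_def, mul_assoc]
  refine hns (isSolvable_of_solvable_abelian _ G le_rfl fun H hH => ?_)
  obtain ⟨M, hHM, hM⟩ := exists_maxSolv_ge hH
  haveI := ((h M hM).2.2.2.2).resolve_left (not_not.mpr (hF M hM))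
  exact ⟨⟨fun a b => Subtype.ext (setLike_mul_comm (S := Subgroup G) (hHM a.2) (hHM b.2))⟩⟩

/-- There is no nontrivial normal solvable subgroup. -/
theorem eq_bot_of_normal_solvable (N : Subgroup G) [N.Normal] (hN : Group.IsSolvable N) : N = ⊥ := by
  by_contra hN1
  obtain ⟨V, hVN, hV1, hVn, hmin⟩ : ∃ V : Subgroup G, V ≤ N ∧ V ≠ ⊥ ∧ V.Normal ∧
      ∀ W : Subgroup G, W.Normal → W ≤ V → W = ⊥ ∨ W = V := by
    obtain ⟨V, ⟨h1, h2, h3⟩, hmin⟩ :=
      (Set.toFinite {V : Subgroup G | V.Normal ∧ V ≤ N ∧ V ≠ ⊥}).exists_minimal ⟨N, ‹_›, le_rfl, hN1⟩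
    refine ⟨V, h2, h3, h1, fun W hW hWV => or_iff_not_imp_left.mpr fun hW1 => ?_⟩
    exact le_antisymm hWV (hmin ⟨hW, hWV.trans h2, hW1⟩ hWV)
  haveI := hVn
  haveI := isSolvable_of_le hVN hN
  haveI : Nontrivial V := (nontrivial_iff_ne_bot V).mpr hV1
  have hlt := Group.IsSolvable.commutator_lt_top_of_nontrivial V
  have hn : ((commutator V).map V.subtype).Normal := ConjAct.normal_of_characteristic_of_normal
  rcases hmin _ hn (map_subtype_le _) with h0 | h0
  · rw [map_eq_bot_iff_of_injective _ V.subtype_injective, commutator_def,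
      commutator_eq_bot_iff_le_centralizer] at h0
    haveI : IsMulCommutative V := ⟨⟨fun a b =>
      (mem_centralizer_iff.mp (h0 (mem_top a)) b (mem_top b)).symm⟩⟩
    exact hV1 (eq_bot_of_normal_abelian hns h V)
  · refine hlt.ne (map_injective V.subtype_injective ?_)
    rw [h0, ← MonoidHom.range_eq_map, range_subtype]

theorem eq_bot_of_normal_odd (N : Subgroup G) [N.Normal] (hN : Odd (Nat.card N)) : N = ⊥ :=
  eq_bot_of_normal_solvable hns h N (Cfsg.Agent.S0205.result hN)

variable {M : Subgroup G} (hM : MaxSolv M) (hFM : F M ≠ ⊥)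
include hM hFM

theorem mem_of_conj {g x : G} (hx : x ∈ F M) (hx1 : x ≠ 1) (hgx : g⁻¹ * x * g ∈ F M) : g ∈ M := by
  by_contra hg
  refine hx1 ?_
  rw [← mem_bot, ← (h M hM).2.2.2.1 g hg]
  exact ⟨hx, (Subgroup.mem_smul_pointwise_iff_exists _ _ _).mpr ⟨g⁻¹ * x * g, hgx, by simp [MulAut.smul_def, mul_assoc]⟩⟩

theorem normalizer_eq : normalizer (F M : Set G) = M := by
  refine le_antisymm (fun g hg => ?_) (h M hM).2.1
  obtain ⟨⟨x, hx⟩, hx1⟩ := ne_bot_iff_exists_ne_one.mp hFM
  refine mem_of_conj hns h hM hFM hx (fun e => hx1 (Subtype.ext e)) ?_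
  have := (mem_normalizer_iff.mp ((normalizer (F M : Set G)).inv_mem hg) x).mp hx
  simpa using this

theorem lt : F M < M := by
  refine lt_of_le_of_ne (h M hM).1 fun e => hns ?_
  have hF : Cfsg.IsFrobeniusComplement M := ⟨e ▸ hFM, maxSolv_ne_top hns hM, fun g hg => by
    have := (h M hM).2.2.2.1 g hg
    rwa [e] at this⟩
  obtain ⟨N, hN, hNn, hc⟩ := CfsgLib.Frobenius.exists_kernel_subgroup hF
  obtain ⟨N', hN', -, hnil⟩ := Cfsg.Agent.S0042.result M hF
  obtain rfl : N' = N := SetLike.coe_injective (hN'.trans hN.symm)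
  haveI := hM.1
  haveI := hnil
  haveI : Group.IsSolvable (G ⧸ N') :=
    Group.isSolvable_of_surjective (f := (hc.symm.QuotientMulEquiv).symm.toMonoidHom)
      (hc.symm.QuotientMulEquiv).symm.surjective
  exact Group.isSolvable_of_ker_le_range N'.subtype (QuotientGroup.mk' N')
    (by rw [QuotientGroup.ker_mk', range_subtype])

theorem mem_kernel_of_commute {a x : G} (ha : a ∈ M) (hx : x ∈ F M) (hx1 : x ≠ 1)
    (hc : x * a = a * x) : a ∈ F M := by
  by_contra haF
  exact hx1 ((h M hM).2.2.1 a ha haF x hx hc)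

theorem nilCent : CfsgLib.CN.NilCent (F M) := by
  refine CfsgLib.CN.Partition.nilCent (lt hns h hM hFM) hFM (fun x hx hx1 a ha => ?_) (fun g hg x hx hgx => ?_)
    (normalizer_eq hns h hM hFM)
  · exact mem_kernel_of_commute hns h hM hFM ha.1 hx hx1 (mem_centralizer_singleton_iff.mp ha.2).symm
  · by_contra hx1
    refine hg ((normalizer_eq hns h hM hFM).ge ?_)
    have := mem_of_conj hns h hM hFM (g := g⁻¹) hx hx1 (by simpa using hgx)
    simpa using this

end CfsgLib.MaxSolvFrob
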