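import Cfsg.Agent.Lib.MaxSolvFrob.Basic
import Cfsg.Agent.Lib.Invol.GlaubermanZStar
import Cfsg.Agent.Lib.OddOrder.Fitting

/-!
# The involutions lie in a kernel; the group is simple
-/

set_option autoImplicit false

namespace CfsgLib.MaxSolvFrob

open Subgroup
open scoped Pointwise

universe u

variable {G : Type u} [Group G] [Finite G] (hns : ¬ Group.IsSolvable G)
  {F : Subgroup G → Subgroup G} (h : Hyp F)
include hns h

omit h in
theorem even_card : 2 ∣ Nat.card G := by
  by_contra hc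
  exact hns (Cfsg.Agent.S0205.result (Nat.not_even_iff_odd.mp fun he => hc (even_iff_two_dvd.mp he)))

/-- If all maximal solvable subgroups over a Sylow subgroup are abelian, Burnside's hypothesis holds. -/
theorem normalizer_le_centralizer {p : ℕ} [Fact p.Prime] (P : Sylow p G)
    (hP : ∀ M, MaxSolv M → (P : Subgroup G) ≤ M → F M = ⊥) :
    normalizer ((P : Subgroup G) : Set G) ≤ centralizer ((P : Subgroup G) : Set G) := by
  intro g hg
  set N := normalizer ((P : Subgroup G) : Set G)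
  haveI : ((P : Subgroup G).subgroupOf N).Normal := normal_subgroupOf_of_le_normalizer le_rfl
  haveI : Group.IsNilpotent (P : Subgroup G) := P.2.isNilpotent
  have hK : Group.IsSolvable (zpowers (⟨g, hg⟩ : N) ⊔ (P : Subgroup G).subgroupOf N : Subgroup N) :=
    isSolvable_sup_normal _ _ (Group.isSolvable_of_comm fun a b => mul_comm' a b)
      (Group.isSolvable_of_surjective (f := (subgroupOfEquivOfLe (le_normalizer :
        (P : Subgroup G) ≤ N)).symm.toMonoidHom) (MulEquiv.surjective _))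
  haveI := hK
  have hK' : Group.IsSolvable ((zpowers (⟨g, hg⟩ : N) ⊔ (P : Subgroup G).subgroupOf N).map N.subtype : Subgroup G) :=
    Group.isSolvable_of_surjective (f := N.subtype.subgroupMap _) (MonoidHom.subgroupMap_surjective _ _)
  obtain ⟨M, hKM, hM⟩ := exists_maxSolv_ge hK'
  have hPM : (P : Subgroup G) ≤ M := fun x hx =>
    hKM ⟨⟨x, le_normalizer hx⟩, mem_sup_right hx, rfl⟩
  haveI := ((h M hM).2.2.2.2).resolve_left (not_not.mpr (hP M hM hPM))
  exact mem_centralizer_iff.mpr fun y hy => setLike_mul_comm (S := Subgroup G) (hPM hy)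
    (hKM ⟨⟨g, hg⟩, mem_sup_left (mem_zpowers _), rfl⟩)

omit h in
/-- A Sylow 2-subgroup does not satisfy Burnside's hypothesis. -/
theorem not_burnside_two (P : Sylow 2 G)
    (hP : normalizer ((P : Subgroup G) : Set G) ≤ centralizer ((P : Subgroup G) : Set G)) : False := by
  haveI : Group.IsNilpotent (P : Subgroup G) := P.2.isNilpotent
  haveI : Group.IsSolvable (MonoidHom.transferSylow P hP).ker :=
    Cfsg.Agent.S0205.result (Nat.not_even_iff_odd.mp fun he =>
      MonoidHom.not_dvd_card_ker_transferSylow P hP (even_iff_two_dvd.mp he))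
  exact hns (Group.isSolvable_of_ker_le_range (MonoidHom.transferSylow P hP).ker.subtype
    (MonoidHom.transferSylow P hP) (range_subtype _).ge)

variable {M : Subgroup G} (hM : MaxSolv M) (hFM : F M ≠ ⊥)

include hM hFM in
/-- An involution of `M` outside the kernel inverts the kernel. -/
theorem inverts {a : G} (haM : a ∈ M) (haF : a ∉ F M) (ha : orderOf a = 2) :
    ∀ y ∈ F M, a * y * a = y⁻¹ := by
  have haa : a * a = 1 := Invol.mul_self_eq_one ha
  have hconj : ∀ x ∈ F M, a * x * a ∈ F M := by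
    intro x hx
    have := (mem_normalizer_iff.mp ((normalizer_eq hns h hM hFM).ge haM) x).mp hx
    rwa [Invol.inv_eq_self ha] at this
  let φ : F M → F M := fun x => ⟨(x : G)⁻¹ * (a * x * a), mul_mem (inv_mem x.2) (hconj x x.2)⟩
  have hφ : Function.Injective φ := by
    rintro ⟨x, hx⟩ ⟨y, hy⟩ hxy
    have e : x⁻¹ * (a * x * a) = y⁻¹ * (a * y * a) := congrArg Subtype.val hxy
    have hc : y * x⁻¹ * a = a * (y * x⁻¹) := by
      calc y * x⁻¹ * a = y * (x⁻¹ * (a * x * a)) * (a⁻¹ * x⁻¹) := by group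
        _ = y * (y⁻¹ * (a * y * a)) * (a⁻¹ * x⁻¹) := by rw [e]
        _ = a * (y * x⁻¹) := by group
    exact Subtype.ext (mul_inv_eq_one.mp
      ((h M hM).2.2.1 a haM haF _ (mul_mem hy (inv_mem hx)) hc)).symm
  intro y hy
  obtain ⟨⟨x, hx⟩, hxy⟩ := (Finite.injective_iff_surjective.mp hφ) ⟨y, hy⟩
  have e : x⁻¹ * (a * x * a) = y := congrArg Subtype.val hxy
  rw [← e]
  calc a * (x⁻¹ * (a * x * a)) * a = a * x⁻¹ * a * x * (a * a) := by group
    _ = a⁻¹ * x⁻¹ * a⁻¹ * x := by rw [haa, mul_one, Invol.inv_eq_self ha]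
    _ = (x⁻¹ * (a * x * a))⁻¹ := by group

omit hM hFM in
/-- The kernel of some maximal solvable subgroup has even order. -/
theorem exists_two : ∃ M : Subgroup G, MaxSolv M ∧ F M ≠ ⊥ ∧ 2 ∣ Nat.card (F M) := by
  by_contra hcon
  push Not at hcon
  have he := even_card hns
  obtain ⟨S⟩ : Nonempty (Sylow 2 G) := inferInstance
  have hS1 : (S : Subgroup G) ≠ ⊥ := S.ne_bot_of_dvd_card he
  obtain ⟨M, hM, hSM, hFM⟩ : ∃ M, MaxSolv M ∧ (S : Subgroup G) ≤ M ∧ F M ≠ ⊥ := by
    by_contra hc
    push Not at hc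
    exact not_burnside_two hns S (normalizer_le_centralizer hns h S hc)
  have hodd : ∀ u ∈ F M, orderOf u = 2 → False := fun u hu ho =>
    hcon M hM hFM (ho ▸ orderOf_dvd_natCard _ hu)
  haveI : Nontrivial (S : Subgroup G) := (nontrivial_iff_ne_bot _).mpr hS1
  haveI := S.2.center_nontrivial
  obtain ⟨t, ht⟩ := exists_prime_orderOf_dvd_card' (G := center (S : Subgroup G)) 2
    ((((S.2.to_subgroup _)).card_eq_or_dvd).resolve_left
      (fun e => (Finite.one_lt_card (α := center (S : Subgroup G))).ne' e))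
  set t' : G := ((t : (S : Subgroup G)) : G) with ht'
  have hto : orderOf t' = 2 := by rw [ht', Subgroup.orderOf_coe, Subgroup.orderOf_coe, ht]
  have huniq : ∀ u ∈ (S : Subgroup G), orderOf u = 2 → u = t' := by
    intro u hu huo
    by_contra hne
    have hc : u * t' = t' * u := congrArg Subtype.val (mem_center_iff.mp t.2 ⟨u, hu⟩)
    have h1 := inverts hns h hM hFM (hSM hu) (fun e => hodd u e huo) huo
    have h2 := inverts hns h hM hFM (hSM (t : (S : Subgroup G)).2) (fun e => hodd t' e hto) hto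
    obtain ⟨⟨x, hx⟩, hx1⟩ := ne_bot_iff_exists_ne_one.mp hFM
    have hut : u * t' ∈ F M := by
      refine mem_kernel_of_commute hns h hM hFM (mul_mem (hSM hu) (hSM (t : (S : Subgroup G)).2)) hx
        (fun e => hx1 (Subtype.ext e)) ?_
      have e : u * (t' * x * t') * u = x := by
        rw [h2 x hx, h1 _ (inv_mem hx), inv_inv]
      have hut2 : (u * t')⁻¹ = t' * u := by
        rw [mul_inv_rev, Invol.inv_eq_self huo, Invol.inv_eq_self hto]
      calc x * (u * t') = u * (t' * x * t') * u * (u * t') := by rw [e]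
        _ = u * t' * x * t' * (u * u) * t' := by group
        _ = u * t' * x := by rw [Invol.mul_self_eq_one huo, mul_one, mul_assoc (u * t' * x),
              Invol.mul_self_eq_one hto, mul_one]
    refine hodd _ hut (orderOf_eq_prime ?_ ?_)
    · rw [sq, show u * t' * (u * t') = u * (t' * u) * t' by group, ← hc,
        show u * (u * t') * t' = (u * u) * (t' * t') by group, Invol.mul_self_eq_one huo,
        Invol.mul_self_eq_one hto, one_mul]
    · intro e
      exact hne ((mul_eq_one_iff_eq_inv.mp e).trans (Invol.inv_eq_self hto))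
  obtain ⟨N, hN, hNo, hNc⟩ := CfsgLib.Invol.zStar_sylow S t' hto fun g hg =>
    huniq _ hg (by rw [← hto]; exact orderOf_injective (MulAut.conj g).toMonoidHom (MulAut.conj g).injective t')
  haveI := hN
  rw [eq_bot_of_normal_odd hns h N hNo] at hNc
  have hz : ∀ g, g * t' = t' * g := fun g => by
    have := hNc g
    rw [mem_bot, mul_inv_eq_one, mul_inv_eq_iff_eq_mul] at this
    exact this.symm
  haveI : (zpowers t').Normal := ⟨fun x hx g => by
    obtain ⟨k, rfl⟩ := mem_zpowers_iff.mp hx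
    rw [(Commute.zpow_right (hz g) k).eq, mul_inv_cancel_right]
    exact zpow_mem (mem_zpowers t') k⟩
  have := eq_bot_of_normal_abelian hns h (zpowers t')
  rw [zpowers_eq_bot] at this
  rw [this, orderOf_one] at hto
  omega

variable (h2 : 2 ∣ Nat.card (F M))
include hM hFM h2

/-- Involutions of `M` lie in the kernel. -/
theorem mem_kernel_of_invol {u : G} (hu : u ∈ M) (huo : orderOf u = 2) : u ∈ F M := by
  by_contra huF
  haveI : Fact (Nat.Prime 2) := ⟨Nat.prime_two⟩
  obtain ⟨v, hv⟩ := exists_prime_orderOf_dvd_card' (G := F M) 2 h2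
  rw [← Subgroup.orderOf_coe] at hv
  have := inverts hns h hM hFM hu huF huo _ v.2
  rw [Invol.inv_eq_self hv] at this
  refine huF (mem_kernel_of_commute hns h hM hFM hu v.2 (Invol.ne_one_of_invol hv) ?_)
  calc (v : G) * u = u * v * u * u := by rw [this]
    _ = u * v := by rw [mul_assoc, Invol.mul_self_eq_one huo, mul_one]

theorem stronglyEmbedded : Cfsg.IsStronglyEmbedded M := by
  refine ⟨maxSolv_ne_top hns hM,
    even_iff_two_dvd.mpr (h2.trans (card_dvd_of_le (h M hM).1)), fun g hg => ?_⟩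
  rw [← Nat.not_even_iff_odd]
  intro hev
  obtain ⟨u, ⟨huM, hug⟩, hu⟩ := Invol.exists_orderOf_two_of_even_card hev
  obtain ⟨v, hv, rfl⟩ := mem_map.mp hug
  rw [MulEquiv.coe_toMonoidHom, MulAut.conj_apply] at hu huM
  have hvo : orderOf v = 2 := by
    rw [← hu]
    exact (orderOf_injective (MulAut.conj g).toMonoidHom (MulAut.conj g).injective v).symm
  refine hg (mem_of_conj hns h hM hFM (mem_kernel_of_invol hns h hM hFM h2 huM hu)
    (Invol.ne_one_of_invol hu) ?_)
  simpa [mul_assoc] using mem_kernel_of_invol hns h hM hFM h2 hv hvo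

/-- The centraliser of an involution of the kernel is the kernel. -/
theorem centralizer_eq {u : G} (hu : u ∈ F M) (huo : orderOf u = 2) :
    centralizer ({u} : Set G) = F M := by
  have hnc := nilCent hns h hM hFM
  refine le_antisymm (hnc.centralizer_le u hu (Invol.ne_one_of_invol huo)) fun x hx => ?_
  haveI : Fact (Nat.Prime 2) := ⟨Nat.prime_two⟩
  obtain ⟨z, ⟨hz, hzc⟩, hzo⟩ := CfsgLib.OddOrder.exists_center_orderOf_eq hnc.nilpotent (s := 2) h2
  obtain ⟨g, hg⟩ := isConj_iff.mp
    (CfsgLib.SEmb.isConj_invol (stronglyEmbedded hns h hM hFM h2) hzo huo)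
  have hgM : g ∈ M := by
    have := mem_of_conj hns h hM hFM (g := g) hu (Invol.ne_one_of_invol huo) (by
      rw [← hg]; simpa [mul_assoc] using hz)
    exact this
  have hg' : g⁻¹ * x * g ∈ F M := by
    have := (mem_normalizer_iff.mp ((normalizer (F M : Set G)).inv_mem
      ((normalizer_eq hns h hM hFM).ge hgM)) x).mp hx
    simpa using this
  have hcomm := mem_centralizer_iff.mp hzc _ hg'
  rw [mem_centralizer_singleton_iff, ← hg]
  calc x * (g * z * g⁻¹) = g * ((g⁻¹ * x * g) * z) * g⁻¹ := by group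
    _ = g * (z * (g⁻¹ * x * g)) * g⁻¹ := by rw [hcomm]
    _ = g * z * g⁻¹ * x := by group

/-- Every nontrivial normal subgroup is the whole group. -/
theorem eq_top_of_normal (N : Subgroup G) [N.Normal] (hN : N ≠ ⊥) : N = ⊤ := by
  have hNns : ¬ Group.IsSolvable N := fun hs => hN (eq_bot_of_normal_solvable hns h N hs)
  have hev := even_card hNns
  haveI : Fact (Nat.Prime 2) := ⟨Nat.prime_two⟩
  obtain ⟨u, hu⟩ := exists_prime_orderOf_dvd_card' (G := N) 2 hev
  rw [← Subgroup.orderOf_coe] at hu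
  have hSE := stronglyEmbedded hns h hM hFM h2
  have hall : ∀ t : G, orderOf t = 2 → t ∈ N := fun t ht => by
    obtain ⟨c, hc⟩ := isConj_iff.mp (CfsgLib.SEmb.isConj_invol hSE hu ht)
    exact hc ▸ ‹N.Normal›.conj_mem _ u.2 c
  obtain ⟨t, htF⟩ := exists_prime_orderOf_dvd_card' (G := F M) 2 h2
  rw [← Subgroup.orderOf_coe] at htF
  have hSEN : Cfsg.IsStronglyEmbedded (M.subgroupOf N) := by
    refine ⟨fun e => hNns (isSolvable_of_le (subgroupOf_eq_top.mp e) hM.1),
      even_iff_two_dvd.mpr ?_, fun g hg => ?_⟩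
    · have hx : (⟨t, hall t htF⟩ : N) ∈ M.subgroupOf N := mem_subgroupOf.mpr ((h M hM).1 t.2)
      have h' : orderOf (⟨t, hall t htF⟩ : N) = 2 := by rw [Subgroup.orderOf_mk]; exact htF
      exact h' ▸ orderOf_dvd_natCard _ hx
    · rw [← Nat.not_even_iff_odd]
      intro hev
      obtain ⟨x, ⟨hxM, hxg⟩, hx⟩ := Invol.exists_orderOf_two_of_even_card hev
      obtain ⟨v, hv, rfl⟩ := mem_map.mp hxg
      refine Nat.not_even_iff_odd.mpr (hSE.2.2 (g : G) fun e => hg (mem_subgroupOf.mpr e)) ?_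
      refine Invol.even_card_of_orderOf_two_mem (s := (g : G) * v * (g : G)⁻¹) ?_
        ⟨by simpa using mem_subgroupOf.mp hxM, mem_map.mpr ⟨v, mem_subgroupOf.mp hv, rfl⟩⟩
      rw [← Subgroup.orderOf_coe] at hx
      simpa using hx
  have key : ∀ v : G, orderOf v = 2 → ∃ n ∈ N, n * t * n⁻¹ = v := fun v hv => by
    obtain ⟨n, hn⟩ := isConj_iff.mp (CfsgLib.SEmb.isConj_invol hSEN
      (a := ⟨t, hall t htF⟩) (b := ⟨v, hall v hv⟩) (by rw [Subgroup.orderOf_mk]; exact htF)
      (by rw [Subgroup.orderOf_mk]; exact hv))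
    exact ⟨n, n.2, by simpa using congrArg Subtype.val hn⟩
  have hCt := centralizer_eq hns h hM hFM h2 t.2 htF
  have hsplit : ∀ g : G, ∀ n : G, n * t * n⁻¹ = g * t * g⁻¹ → n⁻¹ * g ∈ F M := fun g n e => by
    rw [← hCt, mem_centralizer_singleton_iff]
    calc n⁻¹ * g * t = n⁻¹ * (g * t * g⁻¹) * g := by group
      _ = n⁻¹ * (n * t * n⁻¹) * g := by rw [e]
      _ = t * (n⁻¹ * g) := by group
  obtain ⟨m, hmM, hmF⟩ := SetLike.exists_of_lt (lt hns h hM hFM)
  have horder : ∀ g : G, orderOf (g * (t : G) * g⁻¹) = 2 := fun g => by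
    rw [← htF]; exact orderOf_injective (MulAut.conj g).toMonoidHom (MulAut.conj g).injective _
  obtain ⟨n, hnN, hn⟩ := key _ (horder m)
  have hnm := hsplit m n hn
  have hnM : n ∈ M := by
    have := mul_mem hmM (inv_mem ((h M hM).1 hnm))
    simpa [mul_assoc] using this
  have hnF : n ∉ F M := fun e => hmF (by simpa [mul_assoc] using mul_mem e hnm)
  have hnor : ∀ x ∈ F M, n * x * n⁻¹ ∈ F M := fun x hx =>
    (mem_normalizer_iff.mp ((normalizer_eq hns h hM hFM).ge hnM) x).mp hx
  have hFN : F M ≤ N := by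
    let f : F M → (F M ⊓ N : Subgroup G) := fun x => ⟨(x : G)⁻¹ * (n * x * n⁻¹),
      (F M).mul_mem ((F M).inv_mem x.2) (hnor x x.2), by
        show _ ∈ N
        rw [show (x : G)⁻¹ * (n * x * n⁻¹) = ((x : G)⁻¹ * n * x) * n⁻¹ by group]
        exact N.mul_mem (by simpa using ‹N.Normal›.conj_mem n hnN (x : G)⁻¹) (N.inv_mem hnN)⟩
    have hf : Function.Injective f := by
      rintro ⟨x, hx⟩ ⟨y, hy⟩ hxy
      have e : x⁻¹ * (n * x * n⁻¹) = y⁻¹ * (n * y * n⁻¹) := congrArg Subtype.val hxy
      have hc : y * x⁻¹ * n = n * (y * x⁻¹) := by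
        calc y * x⁻¹ * n = y * (x⁻¹ * (n * x * n⁻¹)) * n * x⁻¹ := by group
          _ = y * (y⁻¹ * (n * y * n⁻¹)) * n * x⁻¹ := by rw [e]
          _ = n * (y * x⁻¹) := by group
      exact Subtype.ext (mul_inv_eq_one.mp ((h M hM).2.2.1 n hnM hnF _ (mul_mem hy (inv_mem hx)) hc)).symm
    exact inf_eq_left.mp (eq_of_le_of_card_ge inf_le_left (Nat.card_le_card_of_injective f hf))
  refine (eq_top_iff' N).mpr fun g => ?_
  obtain ⟨n, hnN, hn⟩ := key _ (horder g)
  have := mul_mem hnN (hFN (hsplit g n hn))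
  simpa using this

omit hM hFM h2 in
theorem isSimpleGroup : IsSimpleGroup G := by
  obtain ⟨M, hM, hFM, h2⟩ := exists_two hns h
  haveI : Nontrivial G := by
    by_contra hc
    rw [not_nontrivial_iff_subsingleton] at hc
    exact hns (Group.isSolvable_of_comm fun a b => Subsingleton.elim _ _)
  exact ⟨fun N hN => or_iff_not_imp_left.mpr fun hN1 =>
    @eq_top_of_normal G _ _ hns F h M hM hFM h2 N hN hN1⟩

omit h hM hFM h2 in
theorem exists_noncomm : ∃ a b : G, a * b ≠ b * a := by
  by_contra hc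
  push Not at hc
  exact hns (Group.isSolvable_of_comm hc)

end CfsgLib.MaxSolvFrob
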