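import Mathlib.GroupTheory.SpecificGroups.Cyclic
import Cfsg.Agent.Lib.MaxSolvFrob.Simple
import Cfsg.Agent.Lib.Solvable.PrimeActionCore
import Cfsg.Prelude.Def_LieExceptional

/-!
# Every prime divides the order of a kernel; the group is a CN group
-/

set_option autoImplicit false

namespace CfsgLib.MaxSolvFrob

open Subgroup
open scoped Pointwise

universe u

variable {G : Type u} [Group G] [Finite G]

/-- The prime `p` divides the order of a nilpotent subgroup containing its centralisers. -/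
def Cov (G : Type*) [Group G] (p : ℕ) : Prop :=
  ∃ H : Subgroup G, CfsgLib.CN.NilCent H ∧ p ∣ Nat.card H

theorem exists_nilCent_mem {p : ℕ} [Fact p.Prime] (hp : Cov G p) {x : G}
    (hx : CfsgLib.CN.PElem p x) : ∃ H : Subgroup G, CfsgLib.CN.NilCent H ∧ x ∈ H := by
  obtain ⟨H, hH, hd⟩ := hp
  obtain ⟨P, hP, -⟩ := hH.exists_sylow_le hd
  obtain ⟨k, hk⟩ := hx
  obtain ⟨j, -, hj⟩ := (Nat.dvd_prime_pow Fact.out).mp (orderOf_dvd_of_pow_eq_one hk)
  obtain ⟨Q, hQ⟩ := (IsPGroup.of_card (n := j) (G := zpowers x)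
    (by rw [Nat.card_zpowers, hj])).exists_le_sylow
  obtain ⟨g, hg⟩ := MulAction.exists_smul_eq G P Q
  refine ⟨_, hH.map_conj g, ?_⟩
  have hxQ : x ∈ (Q : Subgroup G) := hQ (mem_zpowers x)
  rw [← hg] at hxQ
  obtain ⟨y, hy, rfl⟩ := hxQ
  exact ⟨y, hP hy, rfl⟩

/-- An element of an uncovered prime power order commutes with no element of covered one. -/
theorem eq_one_of_commute {p r : ℕ} [Fact p.Prime] [Fact r.Prime] (hp : ¬ Cov G p) (hr : Cov G r)
    {x y : G} (hx : orderOf x = p) (hy : CfsgLib.CN.PElem r y) (hc : x * y = y * x) : y = 1 := by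
  by_contra hy1
  obtain ⟨H, hH, hyH⟩ := exists_nilCent_mem hr hy
  refine hp ⟨H, hH, ?_⟩
  exact hx ▸ orderOf_dvd_natCard _ (hH.mem_of_commute hyH hy1 hc)

theorem mem_of_normalizes {H : Subgroup G} (hH : CfsgLib.CN.NilCent H) {r : ℕ} [hr : Fact r.Prime]
    (hd : r ∣ Nat.card H) {y : G} (hy : y ∈ normalizer (H : Set G)) (hyr : CfsgLib.CN.PElem r y) :
    y ∈ H := by
  haveI : (H.subgroupOf (normalizer (H : Set G))).Normal := normal_subgroupOf_of_le_normalizer le_rfl
  obtain ⟨k, hk⟩ := hyr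
  have h1 : orderOf (QuotientGroup.mk (⟨y, hy⟩ : normalizer (H : Set G)) :
      _ ⧸ H.subgroupOf (normalizer (H : Set G))) ∣ r ^ k := by
    refine orderOf_dvd_of_pow_eq_one ?_
    rw [← QuotientGroup.mk_pow, show (⟨y, hy⟩ : normalizer (H : Set G)) ^ r ^ k = 1 from Subtype.ext hk,
      QuotientGroup.mk_one]
  have h2 := orderOf_dvd_natCard (QuotientGroup.mk (⟨y, hy⟩ : normalizer (H : Set G)) :
      _ ⧸ H.subgroupOf (normalizer (H : Set G)))
  rw [← index_eq_card] at h2
  have h3 := h2.trans (relIndex_dvd_index_of_le (le_normalizer : H ≤ _))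
  have hcop : Nat.Coprime (r ^ k) H.index := by
    refine Nat.Coprime.pow_left k ((Nat.Prime.coprime_iff_not_dvd hr.out).mpr fun hd' => ?_)
    exact hr.out.not_dvd_one (hH.coprime ▸ Nat.dvd_gcd hd hd')
  exact mem_subgroupOf.mp ((QuotientGroup.eq_one_iff _).mp
    (orderOf_eq_one_iff.mp (Nat.eq_one_of_dvd_coprimes hcop h1 h3)))

variable (hns : ¬ Group.IsSolvable G) {F : Subgroup G → Subgroup G} (h : Hyp F)
include hns h

theorem cov_two : Cov G 2 := by
  obtain ⟨M, hM, hFM, h2⟩ := exists_two hns h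
  exact ⟨F M, nilCent hns h hM hFM, h2⟩

/-- A Sylow subgroup does not satisfy Burnside's hypothesis. -/
theorem not_burnside {p : ℕ} [Fact p.Prime] (P : Sylow p G) (hp : p ∣ Nat.card G)
    (hP : normalizer ((P : Subgroup G) : Set G) ≤ centralizer ((P : Subgroup G) : Set G)) : False := by
  haveI := isSimpleGroup hns h
  haveI : Group.IsNilpotent (P : Subgroup G) := P.2.isNilpotent
  rcases (MonoidHom.normal_ker (MonoidHom.transferSylow P hP)).eq_bot_or_eq_top with h0 | h0
  · exact hns (Group.isSolvable_of_isSolvable_injective (f := MonoidHom.transferSylow P hP)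
      ((MonoidHom.ker_eq_bot_iff _).mp h0))
  · refine MonoidHom.not_dvd_card_ker_transferSylow P hP ?_
    rw [h0, card_top]
    exact hp

theorem cov {p : ℕ} (hp : p.Prime) (hpd : p ∣ Nat.card G) : Cov G p := by
  induction p using Nat.strong_induction_on with
  | _ p ih =>
  by_contra hcon
  haveI := Fact.mk hp
  have hp2 : p ≠ 2 := fun e => hcon (e ▸ cov_two hns h)
  obtain ⟨P⟩ : Nonempty (Sylow p G) := inferInstance
  have hnoF : ∀ M, MaxSolv M → F M ≠ ⊥ → ∀ z ∈ F M, CfsgLib.CN.PElem p z → z = 1 := by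
    intro M hM hFM z hz hzp
    by_contra hz1
    obtain ⟨k, hk⟩ := hzp
    obtain ⟨j, -, hj⟩ := (Nat.dvd_prime_pow hp).mp (orderOf_dvd_of_pow_eq_one hk)
    refine hcon ⟨F M, nilCent hns h hM hFM, ?_⟩
    have hj0 : j ≠ 0 := fun e => hz1 (orderOf_eq_one_iff.mp (by rw [hj, e, pow_zero]))
    exact (hj ▸ dvd_pow_self p hj0 : p ∣ orderOf z).trans (orderOf_dvd_natCard _ hz)
  obtain ⟨M, hM, hPM, hFM⟩ : ∃ M, MaxSolv M ∧ (P : Subgroup G) ≤ M ∧ F M ≠ ⊥ := by
    by_contra hc
    push Not at hc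
    exact not_burnside hns h P hpd (normalizer_le_centralizer hns h P hc)
  -- the Sylow subgroup is cyclic
  haveI hcyc : IsCyclic (P : Subgroup G) := by
    have hFn := nilCent hns h hM hFM
    obtain ⟨u, hu, hu1, huc⟩ := hFn.exists_central
    let V : Subgroup G := F M ⊓ centralizer (F M : Set G)
    haveI : IsMulCommutative V := ⟨⟨fun a b => Subtype.ext (mem_centralizer_iff.mp b.2.2 a a.2.1)⟩⟩
    refine CfsgLib.Zass.isCyclic_of_fpf hp2 (V := V) (fun e => hu1 ?_) (fun y hy => ?_)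
      (fun y hy hy1 => (eq_bot_iff_forall _).mpr fun v hv => ?_) P.2
    · rw [← mem_bot, ← e]
      exact ⟨hu, mem_centralizer_iff.mpr fun b hb => huc b hb⟩
    · have hn : ∀ w, w ∈ M → ∀ v ∈ V, w * v * w⁻¹ ∈ V := by
        intro w hw v hv
        refine ⟨(mem_normalizer_iff.mp ((normalizer_eq hns h hM hFM).ge hw) v).mp hv.1,
          mem_centralizer_iff.mpr fun b hb => ?_⟩
        have hb' : w⁻¹ * b * w ∈ F M := by
          have := (mem_normalizer_iff.mp ((normalizer (F M : Set G)).inv_mem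
            ((normalizer_eq hns h hM hFM).ge hw)) b).mp hb
          simpa using this
        have := mem_centralizer_iff.mp hv.2 _ hb'
        calc b * (w * v * w⁻¹) = w * ((w⁻¹ * b * w) * v) * w⁻¹ := by group
          _ = w * (v * (w⁻¹ * b * w)) * w⁻¹ := by rw [this]
          _ = w * v * w⁻¹ * b := by group
      refine mem_normalizer_iff.mpr fun v => ⟨hn y (hPM hy) v, fun hv => ?_⟩
      simpa [mul_assoc] using hn y⁻¹ (inv_mem (hPM hy)) _ hv
    · by_contra hv1
      have := hnoF M hM hFM y (mem_kernel_of_commute hns h hM hFM (hPM hy) hv.1.1 hv1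
        (mem_centralizer_singleton_iff.mp hv.2)) (CfsgLib.CN.pElem_of_mem P.2 hy)
      exact hy1 this
  refine not_burnside hns h P hpd ?_
  intro g hg
  refine CfsgLib.CN.mem_of_pElem_pow fun r m hr hrm => ?_
  haveI := Fact.mk hr
  have hyN : g ^ m ∈ normalizer ((P : Subgroup G) : Set G) := pow_mem hg m
  generalize hy : g ^ m = y at hrm hyN ⊢
  by_contra hyC
  have hy1 : y ≠ 1 := fun e => hyC (e ▸ one_mem _)
  rcases eq_or_ne r p with rfl | hrp
  · -- a `p`-element normalising the Sylow subgroup lies in it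
    obtain ⟨k, hk⟩ := hrm
    obtain ⟨j, -, hj⟩ := (Nat.dvd_prime_pow hr).mp (orderOf_dvd_of_pow_eq_one hk)
    have hle := P.3 (IsPGroup.to_sup_of_normal_left' P.2 (IsPGroup.of_card (n := j) (G := zpowers y)
      (by rw [Nat.card_zpowers, hj])) (zpowers_le.mpr hyN)) le_sup_left
    have hyP : y ∈ (P : Subgroup G) := hle.le (mem_sup_right (mem_zpowers y))
    exact hyC (mem_centralizer_iff.mpr fun z hz => by
      haveI : IsMulCommutative (P : Subgroup G) := IsCyclic.commutative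
      exact setLike_mul_comm (S := Subgroup G) hz hyP)
  -- `r` is smaller than `p`
  have hrlt : r < p := by
    let f := (P : Subgroup G).normalizerMonoidHom
    have hf : f ⟨y, hyN⟩ ≠ 1 := fun e => hyC (mem_subgroupOf.mp
      ((Subgroup.normalizerMonoidHom_ker (H := (P : Subgroup G))) ▸ (MonoidHom.mem_ker.mpr e :
        (⟨y, hyN⟩ : normalizer ((P : Subgroup G) : Set G)) ∈ f.ker)))
    obtain ⟨k, hk⟩ := hrm
    have h1 : orderOf (f ⟨y, hyN⟩) ∣ r ^ k := orderOf_dvd_of_pow_eq_one (by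
      rw [← map_pow, show (⟨y, hyN⟩ : normalizer ((P : Subgroup G) : Set G)) ^ r ^ k = 1 from
        Subtype.ext hk, map_one])
    obtain ⟨j, -, hj⟩ := (Nat.dvd_prime_pow hr).mp h1
    have hr1 : r ∣ orderOf (f ⟨y, hyN⟩) := hj ▸ dvd_pow_self r fun e =>
      hf (orderOf_eq_one_iff.mp (by rw [hj, e, pow_zero]))
    have h2 := hr1.trans (orderOf_dvd_natCard (f ⟨y, hyN⟩))
    rw [IsCyclic.card_mulAut] at h2
    obtain ⟨a, ha⟩ := IsPGroup.iff_card.mp P.2
    rw [ha] at h2
    rcases Nat.eq_zero_or_pos a with rfl | ha0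
    · simp at h2
      exact absurd h2 hr.ne_one
    rw [Nat.totient_prime_pow hp ha0] at h2
    rcases hr.dvd_mul.mp h2 with h3 | h3
    · exact absurd ((Nat.prime_dvd_prime_iff_eq hr hp).mp (hr.dvd_of_dvd_pow h3)) hrp
    · exact lt_of_le_of_lt (Nat.le_of_dvd (by have := hp.two_le; omega) h3) (by have := hp.pos; omega)
  have hrd : r ∣ Nat.card G := by
    obtain ⟨k, hk⟩ := hrm
    obtain ⟨j, -, hj⟩ := (Nat.dvd_prime_pow hr).mp (orderOf_dvd_of_pow_eq_one hk)
    exact (hj ▸ dvd_pow_self r fun e => hy1 (orderOf_eq_one_iff.mp (by rw [hj, e, pow_zero])) :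
      r ∣ orderOf y).trans (orderOf_dvd_natCard y)
  have hcovr := ih r hrlt hr hrd
  -- a maximal solvable subgroup over `P` and `y`
  haveI : Group.IsNilpotent (P : Subgroup G) := P.2.isNilpotent
  have hK : Group.IsSolvable ((P : Subgroup G) ⊔ zpowers y : Subgroup G) := by
    set N := normalizer ((P : Subgroup G) : Set G)
    haveI : ((P : Subgroup G).subgroupOf N).Normal := normal_subgroupOf_of_le_normalizer le_rfl
    haveI := isSolvable_sup_normal (zpowers (⟨y, hyN⟩ : N)) ((P : Subgroup G).subgroupOf N)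
      (Group.isSolvable_of_comm fun a b => mul_comm' a b)
      (Group.isSolvable_of_surjective (f := (subgroupOfEquivOfLe (le_normalizer :
        (P : Subgroup G) ≤ N)).symm.toMonoidHom) (MulEquiv.surjective _))
    haveI : Group.IsSolvable ((zpowers (⟨y, hyN⟩ : N) ⊔ (P : Subgroup G).subgroupOf N).map N.subtype : Subgroup G) :=
      Group.isSolvable_of_surjective (f := N.subtype.subgroupMap _) (MonoidHom.subgroupMap_surjective _ _)
    refine isSolvable_of_le ?_ this
    exact sup_le (fun z hz => ⟨⟨z, le_normalizer hz⟩, mem_sup_right hz, rfl⟩)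
      (zpowers_le.mpr ⟨⟨y, hyN⟩, mem_sup_left (mem_zpowers _), rfl⟩)
  obtain ⟨M', hKM, hM'⟩ := exists_maxSolv_ge hK
  have hPM' : (P : Subgroup G) ≤ M' := le_sup_left.trans hKM
  have hyM' : y ∈ M' := hKM (mem_sup_right (mem_zpowers y))
  have hFM' : F M' ≠ ⊥ := fun e => hyC (by
    haveI := ((h M' hM').2.2.2.2).resolve_left (not_not.mpr e)
    exact mem_centralizer_iff.mpr fun z hz => setLike_mul_comm (S := Subgroup G) (hPM' hz) hyM')
  have hcomm : ∀ z ∈ (P : Subgroup G), ∀ w ∈ M', w ∈ normalizer ((P : Subgroup G) : Set G) →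
      z⁻¹ * (w * z * w⁻¹) ∈ F M' → z * w = w * z := by
    intro z hz w _ hwN hc
    have := hnoF M' hM' hFM' _ hc (CfsgLib.CN.pElem_of_mem P.2
      (mul_mem (inv_mem hz) ((mem_normalizer_iff.mp hwN z).mp hz)))
    rw [inv_mul_eq_one, eq_mul_inv_iff_mul_eq] at this
    exact this
  have hyF : y ∉ F M' := fun hyF => hyC (mem_centralizer_iff.mpr fun z hz => by
    refine hcomm z hz y hyM' hyN ?_
    rw [show z⁻¹ * (y * z * y⁻¹) = (z⁻¹ * y * z) * y⁻¹ by group]
    refine mul_mem ?_ (inv_mem hyF)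
    have := (mem_normalizer_iff.mp ((normalizer (F M' : Set G)).inv_mem
      ((normalizer_eq hns h hM' hFM').ge (hPM' hz))) y).mp hyF
    simpa using this)
  have hrF : ¬ r ∣ Nat.card (F M') := fun hd =>
    hyF (mem_of_normalizes (nilCent hns h hM' hFM') hd ((normalizer_eq hns h hM' hFM').ge hyM') hrm)
  have hpF : ¬ p ∣ Nat.card (F M') := fun hd => hcon ⟨F M', nilCent hns h hM' hFM', hd⟩
  obtain ⟨k, hk⟩ := hrm
  obtain ⟨j, -, hj⟩ := (Nat.dvd_prime_pow hr).mp (orderOf_dvd_of_pow_eq_one hk)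
  obtain ⟨j, rfl⟩ : ∃ i, j = i + 1 := Nat.exists_eq_succ_of_ne_zero fun e =>
    hy1 (orderOf_eq_one_iff.mp (by rw [hj, e, pow_zero]))
  have hy0 : orderOf (y ^ r ^ j) = r := by
    rw [orderOf_pow' y (pow_ne_zero j hr.pos.ne'), hj,
      Nat.gcd_eq_right (pow_dvd_pow r (Nat.le_succ j)), pow_succ', Nat.mul_div_cancel _ (pow_pos hr.pos j)]
  have hy0N : y ^ r ^ j ∈ normalizer ((P : Subgroup G) : Set G) := pow_mem hyN _
  have hfpf : F M' ⊓ centralizer ({y ^ r ^ j} : Set G) = ⊥ := (eq_bot_iff_forall _).mpr fun v hv => by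
    by_contra hv1
    have hin := mem_kernel_of_commute hns h hM' hFM' (pow_mem hyM' _) hv.1 hv1
      (mem_centralizer_singleton_iff.mp hv.2)
    exact hrF (hy0 ▸ orderOf_dvd_natCard _ hin)
  have key := CfsgLib.Solvable.PrimeAction.commute_of_fpf_nilpotent (q := p) (r := r) hp2
    (Ne.symm hrp) (nilCent hns h hM' hFM').nilpotent
    ((Nat.Prime.coprime_iff_not_dvd hp).mpr hpF).symm ((Nat.Prime.coprime_iff_not_dvd hr).mpr hrF).symm
    P.2 (fun z hz => (mem_normalizer_iff.mp hy0N z).mp hz)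
    (by have := pow_orderOf_eq_one (y ^ r ^ j); rwa [hy0] at this)
    (hPM'.trans (normalizer_eq hns h hM' hFM').ge)
    ((normalizer_eq hns h hM' hFM').ge (pow_mem hyM' _)) hfpf
  obtain ⟨x, hx⟩ := exists_prime_orderOf_dvd_card' (G := (P : Subgroup G)) p
    (P.dvd_card_of_dvd_card hpd)
  rw [← Subgroup.orderOf_coe] at hx
  have hcx : (x : G) * y ^ r ^ j = y ^ r ^ j * x := by
    refine hcomm x x.2 _ (pow_mem hyM' _) hy0N ?_
    obtain ⟨⟨v, hv⟩, hv1⟩ := ne_bot_iff_exists_ne_one.mp hFM'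
    have hxM : ∀ z ∈ (P : Subgroup G), z ∈ M' := fun z hz => hPM' hz
    exact mem_kernel_of_commute hns h hM' hFM'
      (mul_mem (inv_mem (hxM _ x.2)) (hxM _ ((mem_normalizer_iff.mp hy0N _).mp x.2))) hv
      (fun e => hv1 (Subtype.ext e)) (mem_centralizer_iff.mp (key x x.2) v hv)
  have := eq_one_of_commute hcon hcovr hx
    (CfsgLib.CN.pElem_of_orderOf_eq hy0) hcx
  rw [this, orderOf_one] at hy0
  exact hr.ne_one hy0.symm

/-- The group is a CN group. -/
theorem isCNGroup : Cfsg.IsCNGroup G := by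
  intro g hg
  obtain ⟨s, m, hs, hsm⟩ := CfsgLib.CN.exists_pow_prime_order hg
  haveI := Fact.mk hs
  obtain ⟨H, hH, hmem⟩ := exists_nilCent_mem
    (cov hns h hs (hsm ▸ orderOf_dvd_natCard _)) (CfsgLib.CN.pElem_of_orderOf_eq hsm)
  refine CfsgLib.CN.isNilpotent_of_le hH.nilpotent (le_trans (fun x hx => ?_)
    (hH.centralizer_le _ hmem fun e => by rw [e, orderOf_one] at hsm; exact hs.ne_one hsm.symm))
  exact mem_centralizer_singleton_iff.mpr
    ((Commute.pow_right (mem_centralizer_singleton_iff.mp hx : Commute x g) m).eq)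

end CfsgLib.MaxSolvFrob
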