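import Cfsg.Agent.Lib.MaxSolvFrob.Covered
import Cfsg.Agent.Lib.CIT.CNReduction
import Cfsg.Agent.Lib.CIT.TISylow
import Cfsg.Agent.Lib.ZassAbelian.Main
import Cfsg.Agent.Lib.SharpThree.Coord
import Cfsg.Agent.Lib.ZT.Main
import Cfsg.Agent.Lib.Zass.Sharp
import Cfsg.Agent.Lib.Zass.Simple
import Cfsg.Agent.S0738
import Cfsg.Agent.S0885
import Cfsg.Agent.Lib.ZTIso.Suzuki

/-!
# Simple CIT groups with a trivial intersection Sylow 2-subgroup, and the main result
-/

set_option autoImplicit false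

namespace CfsgLib.MaxSolvFrob

open MulAction

/-- Isomorphic to `PSL₂` over a field of even order at least `4`, or to a Suzuki group. -/
theorem classify_of_isTI {G : Type*} [Group G] [Finite G] [IsSimpleGroup G]
    (hab : ∃ a b : G, a * b ≠ b * a) (hev : 2 ∣ Nat.card G) (hC : CfsgLib.CIT.IsCIT G)
    (S : Sylow 2 G) (hTI : CfsgLib.CIT.IsTI S) :
    (∃ (F : Type) (_ : Field F) (_ : Fintype F), (∃ n : ℕ, 2 ≤ n ∧ Fintype.card F = 2 ^ n) ∧
      Nonempty (G ≃* Matrix.ProjectiveSpecialLinearGroup (Fin 2) F)) ∨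
    Cfsg.Lie.IsoSuzuki G := by
  classical
  have hZ := CfsgLib.CIT.isZassenhausGroup_of_isTI hab hev hC S hTI
  have hoddΩ : Odd (Nat.card (G ⧸ Subgroup.normalizer ((S : Subgroup G) : Set G))) := by
    rw [← Subgroup.index_eq_card, ← Nat.not_even_iff_odd]
    exact fun he => S.not_dvd_index ((even_iff_two_dvd.mp he).trans
      (Subgroup.index_dvd_of_le Subgroup.le_normalizer))
  have hne : Subgroup.normalizer ((S : Subgroup G) : Set G) ≠ ⊤ := by
    intro htop
    rcases (Subgroup.normalizer_eq_top_iff.mp htop).eq_bot_or_eq_top with h | h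
    · exact S.ne_bot_of_dvd_card hev h
    · obtain ⟨a, b, hab⟩ := hab
      haveI : Group.IsNilpotent (S : Subgroup G) := S.2.isNilpotent
      exact hab (IsSimpleGroup.comm_iff_isSolvable.mpr
        (Group.isSolvable_of_surjective (f := ((MulEquiv.subgroupCongr h).trans Subgroup.topEquiv).toMonoidHom)
          (MulEquiv.surjective _)) a b)
  haveI := Fintype.ofFinite (G ⧸ Subgroup.normalizer ((S : Subgroup G) : Set G))
  rw [Nat.card_eq_fintype_card] at hoddΩ
  generalize hΩdef : Fintype.card (G ⧸ Subgroup.normalizer ((S : Subgroup G) : Set G)) = N at hoddΩ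
  have hP := CfsgLib.Zass.Pre.of hZ
  have h3 := hP.three_le_card
  obtain ⟨a⟩ : Nonempty (G ⧸ Subgroup.normalizer ((S : Subgroup G) : Set G)) :=
    Fintype.card_pos_iff.1 (by omega)
  obtain ⟨b, hb⟩ := hP.exists_ne a
  have hab' : a ≠ b := hb.symm
  have ho := CfsgLib.CIT.odd_stab_pair hC hTI hne hev hab'
  obtain ⟨K, hK⟩ := hP.exists_kernel a
  have hcard := hK.card hP
  have hreg : ∀ y z, y ≠ a → z ≠ a → ∃! u : K, (u : G) • y = z := fun y z hy hz => by
    obtain ⟨k, hk, hky⟩ := hK.regular y z hy hz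
    exact ⟨⟨k, hk⟩, hky, fun k' hk' => Subtype.ext (hK.inj hy k'.2 hk (hk'.trans hky.symm))⟩
  rcases Cfsg.Agent.S0885.result hZ hab' (N - 1) _ (by omega) rfl ho K
    (fun k hk => hK.le k hk) hcard hK.fix with h1 | ⟨h2, ⟨u, v, huv⟩, -⟩
  swap
  · have hS := CfsgLib.ZT.Setting.of_simple hZ hab' (fun k hk => hK.le k hk) h2
      ⟨u, u.2, v, v.2, fun e => huv (Subtype.ext e)⟩ hreg
    obtain ⟨F, iF, iFF, m, hm, he⟩ := hS.exists_mulEquiv_sz
    exact Or.inr ⟨F, iF, iFF, m, hm.one_le, hm.card, he⟩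
  left
  obtain ⟨hKc, p, f, hp, -, hΩ⟩ := Cfsg.Agent.S0738.result hZ hab' (by omega) K
    (fun k hk => hK.le k hk) ⟨fun x hx g => hK.conj_mem (g : G) g.2 (x : G) hx⟩ hreg
  obtain ⟨c, hc⟩ := hP.card_dvd_sub_two hab'
  have hc1 : c = 1 := by
    have hpos := ho.pos
    have hcle : c ≤ 2 := by
      refine Nat.le_of_mul_le_mul_left ?_ hpos
      rw [← hc]
      omega
    interval_cases c
    · omega
    · rfl
    · exfalso
      rw [Nat.odd_iff] at hoddΩ
      omega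
  subst hc1
  obtain ⟨hS3, -⟩ := hP.isS3_of_sharp (fun x y hxy => by rw [hP.card_pair_eq hxy hab', hc, mul_one])
  obtain ⟨c, hca, hcb⟩ := CfsgLib.SharpThree.exists_third h3 a b
  obtain ⟨s, hsa, hsb, hsc⟩ := hS3.exists_three hab' hca.symm hcb.symm hab'.symm hcb.symm hca.symm
  obtain ⟨hcyc, -⟩ := CfsgLib.Zass.Pre.two_point_cyclic hZ hab'
  obtain ⟨F, iF, iFF, hF, ⟨e⟩⟩ := hS3.exists_mulEquiv_pgl hab' hca.symm hcb.symm hsa hsb hsc
    (fun m m' ha hb ha' hb' => by
      obtain ⟨g, hg⟩ := hcyc.exists_generator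
      obtain ⟨i, hi⟩ := Subgroup.mem_zpowers_iff.1 (hg ⟨m, ha, hb⟩)
      obtain ⟨j, hj⟩ := Subgroup.mem_zpowers_iff.1 (hg ⟨m', ha', hb'⟩)
      exact congrArg Subtype.val
        (hi ▸ hj ▸ zpow_mul_comm g i j : (⟨m, ha, hb⟩ : ↥(stabilizer G a ⊓ stabilizer G b)) *
          ⟨m', ha', hb'⟩ = ⟨m', ha', hb'⟩ * ⟨m, ha, hb⟩))
  have hf : 0 < f := Nat.pos_of_ne_zero fun h => by
    rw [h, pow_zero] at hΩ
    omega
  have hp2 : p = 2 := by
    by_contra hne2
    have hpo : Odd (p ^ f) := (hp.odd_of_ne_two hne2).pow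
    rw [Nat.odd_iff] at hoddΩ hpo
    omega
  subst hp2
  have hcardF : Fintype.card F = 2 ^ f := by omega
  refine ⟨F, iF, iFF, ⟨f, ?_, hcardF⟩, ⟨e.trans (MulEquiv.ofBijective
    Matrix.ProjectiveSpecialLinearGroup.toPGL
    ⟨Matrix.ProjectiveSpecialLinearGroup.toPGL_injective,
      Matrix.ProjectiveSpecialLinearGroup.toPGL_surj_of_roots fun r => ?_⟩).symm⟩⟩
  · by_contra hf2
    obtain rfl : f = 1 := by omega
    have h3' : Fintype.card (G ⧸ Subgroup.normalizer ((S : Subgroup G) : Set G)) = 3 := by omega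
    have hle : Nat.card ↥(stabilizer G a ⊓ stabilizer G b) ≤ 1 := by
      rw [h3', mul_one] at hc
      omega
    obtain ⟨g, hg1, x, y, hxy, hx, hy⟩ := hZ.2.2.2.1
    have h4 := hP.card_pair_eq hxy hab'
    have h5 : 1 < Nat.card ↥(stabilizer G x ⊓ stabilizer G y) :=
      Finite.one_lt_card_iff_nontrivial.mpr ⟨⟨⟨g, hx, hy⟩, 1, fun e => hg1 (congrArg Subtype.val e)⟩⟩
    omega
  refine ⟨r ^ 2 ^ (f - 1), Units.ext ?_⟩
  rw [Fintype.card_fin, Units.val_pow_eq_pow_val, Units.val_pow_eq_pow_val, ← pow_mul, ← pow_succ,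
    Nat.sub_add_cancel hf, show 2 ^ f = Fintype.card F by omega]
  exact FiniteField.pow_card _

variable {G : Type*} [Group G] [Finite G]

/-- Non-solvable groups satisfying the hypothesis. -/
theorem classify (hns : ¬ Group.IsSolvable G) {F : Subgroup G → Subgroup G} (h : Hyp F) :
    (∃ (K : Type) (_ : Field K) (_ : Fintype K), (∃ n : ℕ, 2 ≤ n ∧ Fintype.card K = 2 ^ n) ∧
      Nonempty (G ≃* Matrix.ProjectiveSpecialLinearGroup (Fin 2) K)) ∨
    Cfsg.Lie.IsoSuzuki G := by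
  haveI := isSimpleGroup hns h
  obtain ⟨M, hM, hFM, h2⟩ := exists_two hns h
  have hab := exists_noncomm hns
  have hC := CfsgLib.CIT.CNR.isCIT_of_isCN (isCNGroup hns h) hab
  have hnc := nilCent hns h hM hFM
  haveI : Fact (Nat.Prime 2) := ⟨Nat.prime_two⟩
  obtain ⟨S, hS, -⟩ := hnc.exists_sylow_le h2
  obtain ⟨⟨t, htF⟩, ht⟩ := exists_prime_orderOf_dvd_card' (G := F M) 2 h2
  rw [Subgroup.orderOf_mk] at ht
  have hp : IsPGroup 2 (F M) := centralizer_eq hns h hM hFM h2 htF ht ▸ hC t ht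
  have hSF : (F M) = (S : Subgroup G) := S.3 hp hS
  have hTI : CfsgLib.CIT.IsTI S := by
    intro g hg x hx hgx
    by_contra hx1
    refine hg ?_
    rw [← hSF] at hx hgx ⊢
    exact (normalizer_eq hns h hM hFM).ge (mem_of_conj hns h hM hFM hx hx1 hgx)
  exact classify_of_isTI hab (even_card hns) hC S hTI

end CfsgLib.MaxSolvFrob
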